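import Groth.Agent.Lib.AdicFSFlat.Andre
import Groth.Agent.Lib.AdicFSFlat.Lift
import Groth.Agent.Lib.Cohen.Structure
import Groth.Agent.S2471
import Groth.Agent.Lib.CohenAlg5.Basic
import Groth.Agent.Lib.FlatOff.InfinitesimalMain
import Mathlib.RingTheory.TensorProduct.Quotient

/-!
# Complete flat lifts of regular fibres, and their uniqueness
-/

set_option autoImplicit false
set_option linter.style.haveILetI false
set_option backward.isDefEq.respectTransparency false
universe u

open IsLocalRing TensorProduct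

namespace GrothLib.FibLift5

/-- Every complete regular algebra over the residue field is the closed fibre of a complete flat algebra. -/
theorem exists_lift_regular {A : Type u} [CommRing A] [IsLocalRing A] [IsNoetherianRing A]
    (B₀ : Type u) [CommRing B₀] [IsRegularLocalRing B₀] [IsAdicComplete (maximalIdeal B₀) B₀]
    [Algebra (ResidueField A) B₀] :
    ∃ (C : Type u) (_ : CommRing C) (_ : IsLocalRing C) (_ : IsNoetherianRing C) (_ : Algebra A C)
      (_ : IsLocalHom (algebraMap A C)) (π : C →+* B₀),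
      IsAdicComplete (maximalIdeal C) C ∧ Module.Flat A C ∧ Function.Surjective π ∧
        RingHom.ker π = (maximalIdeal A).map (algebraMap A C) ∧
        π.comp (algebraMap A C) = (algebraMap (ResidueField A) B₀).comp (residue A) := by
  classical
  let Ah := AdicCompletion (maximalIdeal A) A
  haveI : IsNoetherianRing Ah := (GrothLib.Ratliff.isUniversallyCatenary_cpl (A := A)).1
  obtain ⟨Λ, _, d, f, hΛ, hf⟩ :=
    GrothLib.Cohen.exists_surjective_mvPowerSeries Ah (maximalIdeal Ah).fg_of_isNoetherianRing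
  haveI hΛl : IsLocalRing Λ := by
    rcases hΛ with hF | hC
    · letI := hF.toField; infer_instance
    · obtain ⟨_, hv, -⟩ := hC; haveI := hv; infer_instance
  let R := MvPowerSeries (Fin d) Λ
  obtain ⟨a, q, hbase⟩ : ∃ a q, GrothLib.AdicFSFlat.IsBase q a Λ := by
    rcases hΛ with hF | hC
    · letI := hF.toField; exact ⟨0, 0, GrothLib.AdicFSFlat.isBase_field Λ 0⟩
    · obtain ⟨p, hp, hm⟩ := hC.2.2.2
      exact ⟨1, p, GrothLib.AdicFSFlat.isBase_cohen Λ hC p hp hm⟩
  haveI : IsRegularLocalRing R := (hbase.2.2.2 d).1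
  haveI : IsLocalHom f := Function.Surjective.isLocalHom f hf
  have hbij := AdicCompletion.residueField_map_bijective_of_fg (maximalIdeal A).fg_of_isNoetherianRing
  let g : Ah →+* ResidueField A := (RingEquiv.ofBijective _ hbij).symm.toRingHom.comp (residue Ah)
  have hg : ∀ x, g (algebraMap A Ah x) = residue A x := fun x => by
    show (RingEquiv.ofBijective _ hbij).symm (residue Ah (algebraMap A Ah x)) = residue A x
    rw [RingEquiv.symm_apply_eq, RingEquiv.ofBijective_apply, ResidueField.map_residue]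
  have hg0 : ∀ x ∈ maximalIdeal Ah, g x = 0 := fun x hx => by
    show (RingEquiv.ofBijective _ hbij).symm (residue Ah x) = 0
    rw [(residue_eq_zero_iff x).2 hx, map_zero]
  letI : Algebra R B₀ := ((algebraMap (ResidueField A) B₀).comp (g.comp f)).toAlgebra
  have hfm : ∀ x ∈ maximalIdeal R, f x ∈ maximalIdeal Ah := fun x hx hu => hx (isUnit_of_map_unit f x hu)
  have h0 : ∀ x ∈ maximalIdeal R, algebraMap R B₀ x = 0 := fun x hx => by
    show algebraMap (ResidueField A) B₀ (g (f x)) = 0
    rw [hg0 _ (hfm x hx), map_zero]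
  obtain ⟨Q, _, hQreg, _, π, hQc, hQloc, hQflat, hπs, hπk⟩ := GrothLib.AdicFSFlat.exists_flat_lift d hΛ B₀ h0
  haveI := hQreg; haveI := hQc; haveI := hQloc; haveI := hQflat
  let I := RingHom.ker f
  have hI : I ≤ maximalIdeal R := le_maximalIdeal (RingHom.ker_ne_top f)
  haveI : IsLocalRing (R ⧸ I) := GrothLib.RegLoc.isLocalRing_quotient hI
  let J := I.map (algebraMap R Q)
  have hJle : J ≤ maximalIdeal Q := (Ideal.map_mono hI).trans
    (((local_hom_TFAE (algebraMap R Q)).out 0 2 rfl rfl).mp inferInstance)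
  haveI : IsLocalRing (Q ⧸ J) := GrothLib.RegLoc.isLocalRing_quotient hJle
  let e : (R ⧸ I) ≃+* Ah := RingHom.quotientKerEquivOfSurjective hf
  let ι : A →+* R ⧸ I := e.symm.toRingHom.comp (algebraMap A Ah)
  letI : Algebra A (R ⧸ I) := ι.toAlgebra
  letI : Algebra A (Q ⧸ J) := ((algebraMap (R ⧸ I) (Q ⧸ J)).comp ι).toAlgebra
  haveI : IsScalarTower A (R ⧸ I) (Q ⧸ J) := IsScalarTower.of_algebraMap_eq fun _ => rfl
  haveI : Module.Flat A (R ⧸ I) :=
    RingHom.Flat.comp ((RingHom.flat_algebraMap_iff).2 (inferInstance : Module.Flat A Ah))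
      (RingHom.Flat.of_bijective e.symm.bijective)
  haveI : Module.Flat (R ⧸ I) (Q ⧸ J) := GrothLib.FlatOff.flat_quot_map R Q I
  haveI : Module.Flat A (Q ⧸ J) := Module.Flat.trans A (R ⧸ I) (Q ⧸ J)
  have hmRI : (maximalIdeal A).map ι = (maximalIdeal R).map (Ideal.Quotient.mk I) := by
    rw [GrothLib.RegLoc.map_maximalIdeal_quotient, ← Ideal.map_map, ← AdicCompletion.maximalIdeal_eq_map]
    exact IsLocalRing.eq_maximalIdeal (Ideal.IsMaximal.map_bijective e.symm.toRingHom e.symm.bijective
      (maximalIdeal.isMaximal Ah))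
  have hmQ : (maximalIdeal A).map (algebraMap A (Q ⧸ J)) =
      ((maximalIdeal R).map (algebraMap R Q)).map (Ideal.Quotient.mk J) := by
    rw [show algebraMap A (Q ⧸ J) = (algebraMap (R ⧸ I) (Q ⧸ J)).comp ι from rfl, ← Ideal.map_map, hmRI,
      Ideal.map_map, Ideal.map_map]
    rfl
  haveI hloc : IsLocalHom (algebraMap A (Q ⧸ J)) := by
    refine ((local_hom_TFAE (algebraMap A (Q ⧸ J))).out 0 2).2 ?_
    rw [hmQ, ← GrothLib.RegLoc.map_maximalIdeal_quotient]
    exact Ideal.map_mono (((local_hom_TFAE (algebraMap R Q)).out 0 2 rfl rfl).mp inferInstance)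
  have hJker : J ≤ RingHom.ker π.toRingHom := by
    rw [hπk]
    exact Ideal.map_mono hI
  let π' : Q ⧸ J →+* B₀ := Ideal.Quotient.lift J π.toRingHom fun x hx => hJker hx
  refine ⟨Q ⧸ J, inferInstance, inferInstance, inferInstance, inferInstance, hloc, π',
    GrothLib.AdicFSFlat.isAdicComplete_quotient J, inferInstance, fun b => ?_, ?_, RingHom.ext fun x => ?_⟩
  · obtain ⟨q, rfl⟩ := hπs b
    exact ⟨Ideal.Quotient.mk J q, rfl⟩
  · rw [hmQ, ← hπk]
    exact Ideal.ker_quotient_lift _ _
  · obtain ⟨r, hr⟩ := Ideal.Quotient.mk_surjective (ι x)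
    show π' (algebraMap (R ⧸ I) (Q ⧸ J) (ι x)) = _
    rw [← hr]
    show π (algebraMap R Q r) = _
    rw [π.commutes]
    show algebraMap (ResidueField A) B₀ (g (f r)) = algebraMap (ResidueField A) B₀ (residue A x)
    have h1 : e (ι x) = algebraMap A Ah x := e.apply_symm_apply _
    rw [← hr, RingHom.quotientKerEquivOfSurjective_apply_mk] at h1
    rw [h1, hg]

variable {R B C T : Type u} [CommRing R] [CommRing B] [IsLocalRing B] [IsNoetherianRing B]
  [IsAdicComplete (maximalIdeal B) B] [Algebra R B] [CommRing C] [IsLocalRing C] [IsNoetherianRing C]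
  [IsAdicComplete (maximalIdeal C) C] [Algebra R C] [CommRing T] [Algebra R T]

/-- A lift between formally smooth complete algebras with a common fibre is surjective. -/
theorem exists_surjective_lift [Nontrivial T] (I : Ideal R) (πB : B →ₐ[R] T) (πC : C →ₐ[R] T)
    (hsB : Function.Surjective πB) (hsC : Function.Surjective πC)
    (hkB : RingHom.ker πB.toRingHom = I.map (algebraMap R B))
    (hkC : RingHom.ker πC.toRingHom = I.map (algebraMap R C))
    (hB : CAlgX.IsAdicFormallySmooth R B (maximalIdeal B)) :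
    ∃ v : B →ₐ[R] C, Function.Surjective v ∧ πC.comp v = πB := by
  haveI : IsLocalRing T := IsLocalRing.of_surjective' πB.toRingHom hsB
  have hmB : (maximalIdeal B).map πB.toRingHom = maximalIdeal T :=
    map_maximalIdeal_of_surjective πB.toRingHom hsB
  have hmC : (maximalIdeal C).map πC.toRingHom = maximalIdeal T :=
    map_maximalIdeal_of_surjective πC.toRingHom hsC
  let J := RingHom.ker πC.toRingHom
  let e : (C ⧸ J) ≃ₐ[R] T := Ideal.quotientKerAlgEquivOfSurjective hsC
  have hmk : ∀ c, e.symm (πC c) = Ideal.Quotient.mk J c := fun c =>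
    e.injective (by rw [e.apply_symm_apply]; rfl)
  let u : B →ₐ[R] C ⧸ J := e.symm.toAlgHom.comp πB
  obtain ⟨v, -, hv⟩ := GrothLib.AdicFSFlat.exists_lift hB J (RingHom.ker_ne_top _) u (by
    refine Ideal.map_le_iff_le_comap.2 fun b hb => ?_
    have h1 : πB b ∈ (maximalIdeal C).map πC.toRingHom := by
      rw [hmC, ← hmB]
      exact Ideal.mem_map_of_mem _ hb
    obtain ⟨c, hc, hcb⟩ := (Ideal.mem_map_iff_of_surjective πC.toRingHom hsC).1 h1
    show e.symm (πB b) ∈ (maximalIdeal C).map (Ideal.Quotient.mk J)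
    rw [← show πC c = πB b from hcb, hmk]
    exact Ideal.mem_map_of_mem _ hc)
  have hcomp : ∀ b, πC (v b) = πB b := fun b => by
    have h1 : Ideal.Quotient.mk J (v b) = e.symm (πB b) := AlgHom.congr_fun hv b
    rw [← hmk] at h1
    exact e.symm.injective h1
  have hIle : I.map (algebraMap R C) ≤ (maximalIdeal B).map v.toRingHom := by
    rw [← v.comp_algebraMap, ← Ideal.map_map, ← hkB]
    exact Ideal.map_mono (le_maximalIdeal (RingHom.ker_ne_top _))
  have hmax : maximalIdeal C ≤ (maximalIdeal B).map v.toRingHom := fun c hc => by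
    have h1 : πC c ∈ (maximalIdeal B).map πB.toRingHom := by
      rw [hmB, ← hmC]
      exact Ideal.mem_map_of_mem _ hc
    obtain ⟨b, hb, hbc⟩ := (Ideal.mem_map_iff_of_surjective πB.toRingHom hsB).1 h1
    rw [← sub_add_cancel c (v b)]
    refine add_mem (hIle ?_) (Ideal.mem_map_of_mem _ hb)
    rw [← hkC, RingHom.mem_ker]
    show πC (c - v b) = 0
    rw [map_sub, hcomp, ← show πB b = πC c from hbc, sub_self]
  have hvm : (maximalIdeal B).map v.toRingHom = maximalIdeal C := by
    refine le_antisymm (le_maximalIdeal fun htop => ?_) hmax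
    have : (⊤ : Ideal T) ≤ maximalIdeal T := by
      rw [← Ideal.map_top πC.toRingHom, ← htop, Ideal.map_map, ← hmB]
      refine le_of_eq ?_
      congr 1
      exact RingHom.ext hcomp
    exact (maximalIdeal.isMaximal T).ne_top (top_le_iff.1 this)
  haveI : IsHausdorff ((maximalIdeal B).map v.toRingHom) C := by rw [hvm]; infer_instance
  refine ⟨v, surjective_of_mk_map_comp_surjective (I := maximalIdeal B) v.toRingHom fun y => ?_, AlgHom.ext hcomp⟩
  obtain ⟨c, rfl⟩ := Ideal.Quotient.mk_surjective y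
  obtain ⟨b, hb⟩ := hsB (πC c)
  refine ⟨b, Ideal.Quotient.eq.2 (hIle ?_)⟩
  rw [← hkC, RingHom.mem_ker]
  show πC (v b - c) = 0
  rw [map_sub, hcomp, hb, sub_self]

/-- Formally smooth complete algebras with a common fibre are isomorphic. -/
theorem exists_algEquiv [Nontrivial T] (I : Ideal R) (πB : B →ₐ[R] T) (πC : C →ₐ[R] T)
    (hsB : Function.Surjective πB) (hsC : Function.Surjective πC)
    (hkB : RingHom.ker πB.toRingHom = I.map (algebraMap R B))
    (hkC : RingHom.ker πC.toRingHom = I.map (algebraMap R C))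
    (hB : CAlgX.IsAdicFormallySmooth R B (maximalIdeal B))
    (hC : CAlgX.IsAdicFormallySmooth R C (maximalIdeal C)) :
    ∃ v : B ≃ₐ[R] C, ∀ b, πC (v b) = πB b := by
  obtain ⟨v, hv, hcomp⟩ := exists_surjective_lift I πB πC hsB hsC hkB hkC hB
  obtain ⟨w, hw, -⟩ := exists_surjective_lift I πC πB hsC hsB hkC hkB hC
  have hinj := GrothLib.CohenAlg5.injective_of_surjective_endomorphism ((w.comp v).toRingHom) (hw.comp hv)
  exact ⟨AlgEquiv.ofBijective v ⟨fun x y h => hinj (congrArg w h), hv⟩, AlgHom.congr_fun hcomp⟩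

omit [IsAdicComplete (maximalIdeal B) B] in
/-- A flat algebra is formally smooth as soon as its closed fibre is. -/
theorem isAdicFormallySmooth_of_fibre {A : Type u} [CommRing A] [IsLocalRing A] [Algebra A B]
    [IsLocalHom (algebraMap A B)] [Module.Flat A B] {F : Type u} [CommRing F] [IsLocalRing F]
    [Algebra (ResidueField A) F]
    (hF : CAlgX.IsAdicFormallySmooth (ResidueField A) F (maximalIdeal F))
    (π : B →+* F) (hπ : Function.Surjective π) (hk : RingHom.ker π = (maximalIdeal A).map (algebraMap A B))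
    (hc : ∀ a, π (algebraMap A B a) = algebraMap (ResidueField A) F (residue A a)) :
    CAlgX.IsAdicFormallySmooth A B (maximalIdeal B) := by
  refine GrothLib.AdicFSFlat.isAdicFormallySmooth_of_adic (GrothLib.AdicFSLoc.isFormallySmoothAdic_of_flat _ ?_)
  set N := (maximalIdeal A).map (algebraMap A B)
  haveI : IsLocalRing (B ⧸ N) := GrothLib.RegLoc.isLocalRing_quotient
    (((local_hom_TFAE (algebraMap A B)).out 0 2 rfl rfl).mp inferInstance)
  rw [GrothLib.RegLoc.map_maximalIdeal_quotient]
  letI := Ideal.Quotient.field (maximalIdeal A)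
  let eR : (B ⧸ N) ≃+* F := (Ideal.quotEquivOfEq hk.symm).trans (RingHom.quotientKerEquivOfSurjective hπ)
  let iF : Algebra (A ⧸ maximalIdeal A) F := ‹Algebra (ResidueField A) F›
  letI := iF
  let e : (B ⧸ N) ≃ₐ[A ⧸ maximalIdeal A] F := AlgEquiv.ofRingEquiv (f := eR) fun c => by
    obtain ⟨a, rfl⟩ := Ideal.Quotient.mk_surjective c
    exact hc a
  refine GrothLib.AdicFSFlat.adicFormallySmooth_of_algEquiv e.symm (Ideal.map_le_iff_le_comap.2 fun x hx => ?_) hF
  intro hu
  exact hx ((isUnit_map_iff e.symm x).1 hu)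

end GrothLib.FibLift5
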